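import Mathlib

/-!
helper29: flatness descends along a faithfully flat tower (copy of helper2's lemma
`Groth.Agent.Lib.Helper2.flat_of_faithfullyFlat_tower`, kept here so that helper29's proofs do not
depend on another seat's file).
-/

namespace Groth.Agent.Lib.Helper29

open TensorProduct

theorem flat_of_faithfullyFlat_tower (R S T : Type*) [CommRing R] [CommRing S] [CommRing T]
    [Algebra R S] [Algebra S T] [Algebra R T] [IsScalarTower R S T]
    [Module.FaithfullyFlat S T] [Module.Flat R T] : Module.Flat R S := by
  rw [Module.Flat.iff_lTensor_preserves_injective_linearMap]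
  intro N P _ _ _ _ f hf
  have hT : Function.Injective (LinearMap.lTensor T f) :=
    Module.Flat.lTensor_preserves_injective_linearMap f hf
  have hcomm : ∀ x : T ⊗[S] (S ⊗[R] N),
      AlgebraTensorModule.cancelBaseChange R S T T P (LinearMap.lTensor T (f.baseChange S) x) =
        LinearMap.lTensor T f (AlgebraTensorModule.cancelBaseChange R S T T N x) := by
    intro x
    induction x using TensorProduct.induction_on with
    | zero => simp
    | tmul t y =>
      induction y using TensorProduct.induction_on with
      | zero => simp
      | tmul s n => simp [AlgebraTensorModule.cancelBaseChange_tmul]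
      | add y₁ y₂ h₁ h₂ =>
        simp only [TensorProduct.tmul_add, map_add] at h₁ h₂ ⊢
        rw [h₁, h₂]
    | add x₁ x₂ h₁ h₂ => simp only [map_add, h₁, h₂]
  have hinj : Function.Injective (LinearMap.lTensor T (f.baseChange S)) := by
    intro x y hxy
    apply (AlgebraTensorModule.cancelBaseChange R S T T N).injective
    apply hT
    rw [← hcomm, ← hcomm, hxy]
  have := (Module.FaithfullyFlat.lTensor_injective_iff_injective S T (f.baseChange S)).mp hinj
  rwa [LinearMap.baseChange_eq_ltensor] at this

end Groth.Agent.Lib.Helper29
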