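import Mathlib

/-!
helper29: Kähler differentials of the node `k[x,y]/(xy)`: derivations detecting non-constants.
-/

namespace Groth.Agent.Lib.Helper29.Node

open Polynomial

section Generic

variable (k : Type*) [Field k]

/-- For any k-algebra hom `π : S → k[X]`, the composite `derivative ∘ π` is a derivation, so a
relation `dP = a • db` in `Ω[S/k]` gives `(π P)' = π a * (π b)'`. -/
theorem key_poly {S : Type*} [CommRing S] [Algebra k S] (π : S →ₐ[k] k[X]) (P a b : S)
    (h : KaehlerDifferential.D k S P = a • KaehlerDifferential.D k S b) :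
    derivative (π P) = π a * derivative (π b) := by
  let : Algebra S k[X] := π.toRingHom.toAlgebra
  have : IsScalarTower k S k[X] := IsScalarTower.of_algebraMap_eq (fun c => (π.commutes c).symm)
  let δ : Derivation k S k[X] := Derivation.mk' ((Polynomial.derivative (R := k)) ∘ₗ π.toLinearMap)
    (by
      intro x y
      simp only [LinearMap.coe_comp, Function.comp_apply, AlgHom.toLinearMap_apply, map_mul,
        derivative_mul, Algebra.smul_def, RingHom.algebraMap_toAlgebra, AlgHom.toRingHom_eq_coe,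
        RingHom.coe_coe]
      ring)
  have e := δ.liftKaehlerDifferential_comp_D P
  rw [h, map_smul, δ.liftKaehlerDifferential_comp_D] at e
  have e2 : δ P = derivative (π P) := rfl
  have e3 : δ b = derivative (π b) := rfl
  rw [← e2, ← e, e3, Algebra.smul_def, RingHom.algebraMap_toAlgebra]
  rfl

/-- For any k-algebra hom `Φ : S → M[ε]`, `snd ∘ Φ` is a derivation (with `S` acting through `fst ∘ Φ`). -/
theorem key_dual {S M : Type*} [CommRing S] [Algebra k S] [CommRing M] [Algebra k M]
    (Φ : S →ₐ[k] TrivSqZeroExt M M) (P a b : S)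
    (h : KaehlerDifferential.D k S P = a • KaehlerDifferential.D k S b) :
    (Φ P).snd = (Φ a).fst * (Φ b).snd := by
  let : Algebra S M := ((TrivSqZeroExt.fstHom k M M).comp Φ).toRingHom.toAlgebra
  have : IsScalarTower k S M := IsScalarTower.of_algebraMap_eq
    (fun c => (((TrivSqZeroExt.fstHom k M M).comp Φ).commutes c).symm)
  let sndL : TrivSqZeroExt M M →ₗ[k] M :=
    { toFun := fun x => x.snd, map_add' := fun _ _ => rfl, map_smul' := fun _ _ => rfl }
  let δ : Derivation k S M := Derivation.mk' (sndL ∘ₗ Φ.toLinearMap)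
    (by
      intro x y
      show (Φ (x * y)).snd = _
      rw [map_mul, TrivSqZeroExt.snd_mul]
      simp only [Algebra.smul_def, RingHom.algebraMap_toAlgebra, AlgHom.toRingHom_eq_coe,
        RingHom.coe_coe, AlgHom.comp_apply, TrivSqZeroExt.fstHom_apply,
        MulOpposite.smul_eq_mul_unop, MulOpposite.unop_op, LinearMap.coe_comp,
        Function.comp_apply, AlgHom.toLinearMap_apply]
      show (RingHom.id M) (Φ x).fst * (Φ y).snd + (Φ x).snd * (Φ y).fst =
        (Φ x).fst * (Φ y).snd + (Φ y).fst * (Φ x).snd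
      rw [RingHom.id_apply]
      ring)
  have e := δ.liftKaehlerDifferential_comp_D P
  rw [h, map_smul, δ.liftKaehlerDifferential_comp_D] at e
  have e2 : δ P = (Φ P).snd := rfl
  have e3 : δ b = (Φ b).snd := rfl
  rw [← e2, ← e, e3, Algebra.smul_def, RingHom.algebraMap_toAlgebra]
  rfl

end Generic

section Node

variable (k : Type*) [Field k]

/-- The branch map `x ↦ X, y ↦ 0`. -/
noncomputable def π₁ : (MvPolynomial (Fin 2) k ⧸ Ideal.span {(MvPolynomial.X 0 * MvPolynomial.X 1 :
    MvPolynomial (Fin 2) k)}) →ₐ[k] k[X] :=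
  Ideal.Quotient.liftₐ _ (MvPolynomial.aeval ![Polynomial.X, 0]) (by
    intro a ha
    obtain ⟨c, rfl⟩ := Ideal.mem_span_singleton'.mp ha
    simp)

/-- The branch map `x ↦ 0, y ↦ X`. -/
noncomputable def π₂ : (MvPolynomial (Fin 2) k ⧸ Ideal.span {(MvPolynomial.X 0 * MvPolynomial.X 1 :
    MvPolynomial (Fin 2) k)}) →ₐ[k] k[X] :=
  Ideal.Quotient.liftₐ _ (MvPolynomial.aeval ![0, Polynomial.X]) (by
    intro a ha
    obtain ⟨c, rfl⟩ := Ideal.mem_span_singleton'.mp ha
    simp)

lemma π₁_mk (Q : MvPolynomial (Fin 2) k) :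
    π₁ k (Ideal.Quotient.mk _ Q) = MvPolynomial.aeval ![Polynomial.X, 0] Q := rfl

lemma π₂_mk (Q : MvPolynomial (Fin 2) k) :
    π₂ k (Ideal.Quotient.mk _ Q) = MvPolynomial.aeval ![0, Polynomial.X] Q := rfl

lemma eq_single0_iff (u : Fin 2 →₀ ℕ) (n : ℕ) : u = Finsupp.single 0 n ↔ u 0 = n ∧ u 1 = 0 := by
  constructor
  · rintro rfl; simp
  · rintro ⟨h0, h1⟩
    ext i
    fin_cases i <;> simp [h0, h1]

lemma eq_single1_iff (u : Fin 2 →₀ ℕ) (n : ℕ) : u = Finsupp.single 1 n ↔ u 0 = 0 ∧ u 1 = n := by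
  constructor
  · rintro rfl; simp
  · rintro ⟨h0, h1⟩
    ext i
    fin_cases i <;> simp [h0, h1]

lemma coeff_aeval₁ (Q : MvPolynomial (Fin 2) k) (n : ℕ) :
    (MvPolynomial.aeval ![Polynomial.X, (0 : k[X])] Q).coeff n = Q.coeff (Finsupp.single 0 n) := by
  induction Q using MvPolynomial.induction_on' with
  | monomial u a =>
    rw [MvPolynomial.aeval_monomial, Finsupp.prod_fintype _ _ (by simp), Fin.prod_univ_two,
      MvPolynomial.coeff_monomial]
    simp only [Matrix.cons_val_zero, Matrix.cons_val_one, Matrix.cons_val_fin_one,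
      Polynomial.algebraMap_eq]
    rcases Nat.eq_zero_or_pos (u 1) with h1 | h1
    · rw [h1, pow_zero, mul_one, Polynomial.coeff_C_mul_X_pow]
      by_cases hn : n = u 0
      · rw [if_pos hn, if_pos ((eq_single0_iff u n).mpr ⟨hn.symm, h1⟩)]
      · rw [if_neg hn, if_neg (fun h => hn ((eq_single0_iff u n).mp h).1.symm)]
    · rw [zero_pow (by omega), mul_zero, mul_zero, Polynomial.coeff_zero, if_neg]
      intro h
      have := ((eq_single0_iff u n).mp h).2
      omega
  | add p q hp hq => simp [hp, hq]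

lemma coeff_aeval₂ (Q : MvPolynomial (Fin 2) k) (n : ℕ) :
    (MvPolynomial.aeval ![(0 : k[X]), Polynomial.X] Q).coeff n = Q.coeff (Finsupp.single 1 n) := by
  induction Q using MvPolynomial.induction_on' with
  | monomial u a =>
    rw [MvPolynomial.aeval_monomial, Finsupp.prod_fintype _ _ (by simp), Fin.prod_univ_two,
      MvPolynomial.coeff_monomial]
    simp only [Matrix.cons_val_zero, Matrix.cons_val_one, Matrix.cons_val_fin_one,
      Polynomial.algebraMap_eq]
    rcases Nat.eq_zero_or_pos (u 0) with h0 | h0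
    · rw [h0, pow_zero, one_mul, Polynomial.coeff_C_mul_X_pow]
      by_cases hn : n = u 1
      · rw [if_pos hn, if_pos ((eq_single1_iff u n).mpr ⟨h0, hn.symm⟩)]
      · rw [if_neg hn, if_neg (fun h => hn ((eq_single1_iff u n).mp h).2.symm)]
    · rw [zero_pow (by omega), zero_mul, mul_zero, Polynomial.coeff_zero, if_neg]
      intro h
      have := ((eq_single1_iff u n).mp h).1
      omega
  | add p q hp hq => simp [hp, hq]

lemma ker_lemma [CharZero k] (Q : MvPolynomial (Fin 2) k)
    (h1 : derivative (MvPolynomial.aeval ![Polynomial.X, (0 : k[X])] Q) = 0)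
    (h2 : derivative (MvPolynomial.aeval ![(0 : k[X]), Polynomial.X] Q) = 0) :
    Q - MvPolynomial.C (Q.coeff 0) ∈
      Ideal.span {(MvPolynomial.X 0 * MvPolynomial.X 1 : MvPolynomial (Fin 2) k)} := by
  rw [Polynomial.derivative_eq_zero] at h1 h2
  have c1 : ∀ n, 1 ≤ n → Q.coeff (Finsupp.single 0 n) = 0 := by
    intro n hn
    rw [← coeff_aeval₁]
    exact Polynomial.coeff_eq_zero_of_natDegree_lt (by omega)
  have c2 : ∀ n, 1 ≤ n → Q.coeff (Finsupp.single 1 n) = 0 := by
    intro n hn
    rw [← coeff_aeval₂]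
    exact Polynomial.coeff_eq_zero_of_natDegree_lt (by omega)
  have hspan : Ideal.span {(MvPolynomial.X 0 * MvPolynomial.X 1 : MvPolynomial (Fin 2) k)} =
      Ideal.span ((fun s => MvPolynomial.monomial s (1:k)) ''
        {Finsupp.single 0 1 + Finsupp.single 1 1}) := by
    rw [Set.image_singleton, MvPolynomial.X, MvPolynomial.X, MvPolynomial.monomial_mul, one_mul]
  rw [hspan, MvPolynomial.mem_ideal_span_monomial_image]
  intro s hs
  refine ⟨_, rfl, ?_⟩
  rw [MvPolynomial.mem_support_iff, MvPolynomial.coeff_sub, MvPolynomial.coeff_C] at hs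
  by_contra hle
  have h01 : s 0 = 0 ∨ s 1 = 0 := by
    by_contra hcon
    push Not at hcon
    apply hle
    intro i
    fin_cases i <;> simp <;> omega
  rcases h01 with h | h
  · have hs' : s = Finsupp.single 1 (s 1) := (eq_single1_iff s (s 1)).mpr ⟨h, rfl⟩
    by_cases hs1 : s 1 = 0
    · have : s = 0 := by rw [hs', hs1, Finsupp.single_zero]
      subst this
      simp at hs
    · apply hs
      have hne : (0 : Fin 2 →₀ ℕ) ≠ s := by
        intro h0; apply hs1; rw [← h0]; rfl
      rw [if_neg hne, sub_zero, hs']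
      exact c2 _ (by omega)
  · have hs' : s = Finsupp.single 0 (s 0) := (eq_single0_iff s (s 0)).mpr ⟨rfl, h⟩
    by_cases hs0 : s 0 = 0
    · have : s = 0 := by rw [hs', hs0, Finsupp.single_zero]
      subst this
      simp at hs
    · apply hs
      have hne : (0 : Fin 2 →₀ ℕ) ≠ s := by
        intro h0; apply hs0; rw [← h0]; rfl
      rw [if_neg hne, sub_zero, hs']
      exact c1 _ (by omega)

/-- If `P` is killed by both branch derivations, then `P` is a constant. -/
lemma const_of [CharZero k]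
    (P : MvPolynomial (Fin 2) k ⧸ Ideal.span {(MvPolynomial.X 0 * MvPolynomial.X 1 :
      MvPolynomial (Fin 2) k)})
    (h1 : derivative (π₁ k P) = 0) (h2 : derivative (π₂ k P) = 0) :
    P ∈ Set.range (algebraMap k (MvPolynomial (Fin 2) k ⧸ Ideal.span {(MvPolynomial.X 0 *
      MvPolynomial.X 1 : MvPolynomial (Fin 2) k)})) := by
  obtain ⟨Q, rfl⟩ := Ideal.Quotient.mk_surjective P
  rw [π₁_mk] at h1
  rw [π₂_mk] at h2
  have := ker_lemma k Q h1 h2
  refine ⟨Q.coeff 0, ?_⟩
  rw [← Ideal.Quotient.mk_algebraMap, MvPolynomial.algebraMap_eq]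
  exact (Ideal.Quotient.eq.mpr this).symm

/-- `x ↦ (ε, 1)`. -/
noncomputable def uε : TrivSqZeroExt (DualNumber k) (DualNumber k) :=
  TrivSqZeroExt.inl DualNumber.eps + TrivSqZeroExt.inr 1

/-- `y ↦ (ε, -1)`. -/
noncomputable def vε : TrivSqZeroExt (DualNumber k) (DualNumber k) :=
  TrivSqZeroExt.inl DualNumber.eps - TrivSqZeroExt.inr 1

lemma uv : uε k * vε k = 0 := by
  apply TrivSqZeroExt.ext
  · simp [uε, vε, TrivSqZeroExt.fst_mul]
  · simp only [uε, vε, TrivSqZeroExt.snd_mul, TrivSqZeroExt.fst_add, TrivSqZeroExt.fst_sub,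
      TrivSqZeroExt.snd_add, TrivSqZeroExt.snd_sub, TrivSqZeroExt.fst_inl, TrivSqZeroExt.fst_inr,
      TrivSqZeroExt.snd_inl, TrivSqZeroExt.snd_inr, TrivSqZeroExt.snd_zero, add_zero, sub_zero,
      zero_add, zero_sub, smul_eq_mul, MulOpposite.smul_eq_mul_unop, MulOpposite.unop_op]
    ring

/-- The diagonal tangent direction: `x ↦ (ε, 1)`, `y ↦ (ε, -1)`. -/
noncomputable def Φ₃ : (MvPolynomial (Fin 2) k ⧸ Ideal.span {(MvPolynomial.X 0 * MvPolynomial.X 1 :
    MvPolynomial (Fin 2) k)}) →ₐ[k] TrivSqZeroExt (DualNumber k) (DualNumber k) :=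
  Ideal.Quotient.liftₐ _ (MvPolynomial.aeval ![uε k, vε k]) (by
    intro a ha
    obtain ⟨c, rfl⟩ := Ideal.mem_span_singleton'.mp ha
    simp [uv])

end Node

end Groth.Agent.Lib.Helper29.Node
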